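/-
Permutation actions: the dimension bound from complex representations, and orbit counting.
-/
import Cfsg.Agent.Lib.MinDegree.Main

set_option autoImplicit false

namespace Cfsg.Agent.MinIndex

open Module MulAction

section rep

variable (G : Type) [Group G] (Ω : Type) [MulAction G Ω]

/-- The permutation representation on functions. -/
def permRep : Representation ℂ G (Ω → ℂ) where
  toFun g :=
    { toFun := fun f x => f (g⁻¹ • x)
      map_add' := fun _ _ => rfl
      map_smul' := fun _ _ => rfl }
  map_one' := LinearMap.ext fun f => funext fun x => by simp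
  map_mul' a b := LinearMap.ext fun f => funext fun x => by simp [mul_smul]

variable [Fintype Ω]

/-- The sum of the values. -/
def total : (Ω → ℂ) →ₗ[ℂ] ℂ where
  toFun f := ∑ x, f x
  map_add' f g := Finset.sum_add_distrib
  map_smul' c f := by simp [Finset.mul_sum]

/-- The permutation representation without the constants. -/
def augRep : Representation ℂ G (LinearMap.ker (total Ω)) where
  toFun g := (permRep G Ω g).restrict fun f hf => by
    simp only [LinearMap.mem_ker, total, LinearMap.coe_mk, AddHom.coe_mk] at hf ⊢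
    rw [← hf]
    exact Fintype.sum_equiv (MulAction.toPerm g⁻¹) _ _ fun x => rfl
  map_one' := LinearMap.ext fun f => Subtype.ext (by
    show permRep G Ω 1 f.1 = f.1
    rw [map_one]; rfl)
  map_mul' a b := LinearMap.ext fun f => Subtype.ext (by
    show permRep G Ω (a * b) f.1 = permRep G Ω a (permRep G Ω b f.1)
    rw [map_mul]; rfl)

theorem finrank_aug [Nonempty Ω] : finrank ℂ (LinearMap.ker (total Ω)) + 1 = Fintype.card Ω := by
  classical
  have hsurj : Function.Surjective (total Ω) := fun c => by
    obtain ⟨x⟩ := ‹Nonempty Ω›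
    exact ⟨Pi.single x c, by simp [total]⟩
  have h := (total Ω).finrank_range_add_finrank_ker
  rw [LinearMap.range_eq_top.2 hsurj, finrank_top, Module.finrank_self, Module.finrank_pi] at h
  omega

theorem noFix_aug [IsPretransitive G Ω] [Nonempty Ω] : MinDegree.NoFix (augRep G Ω) := by
  intro f hf
  refine Subtype.ext (funext fun x => ?_)
  have hc : ∀ y, f.1 y = f.1 x := fun y => by
    obtain ⟨g, rfl⟩ := MulAction.exists_smul_eq G x y
    have h : f.1 (g⁻¹ • g • x) = f.1 (g • x) := congrFun (congrArg Subtype.val (hf g)) (g • x)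
    rw [inv_smul_smul] at h
    exact h.symm
  have h0 : ∑ y, f.1 y = 0 := LinearMap.mem_ker.1 f.2
  simp only [hc, Finset.sum_const, Finset.card_univ, nsmul_eq_mul, mul_eq_zero, Nat.cast_eq_zero,
    Fintype.card_ne_zero, false_or] at h0
  exact h0

end rep

/-- Bounds on irreducible representations bound the index of a proper subgroup. -/
theorem index_bound {G : Type} [Group G] [Finite G] {c : ℕ} {P : ℕ → Prop}
    (B : ∀ (U : Type) [AddCommGroup U] [Module ℂ U] [FiniteDimensional ℂ U] (τ : Representation ℂ G U)
      [τ.IsIrreducible], τ ≠ 1 → c ≤ finrank ℂ U ∧ P (finrank ℂ U))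
    {H : Subgroup G} (hH : H ≠ ⊤) :
    c + 1 ≤ H.index ∧ (P (H.index - 1) ∨ 2 * c + 1 ≤ H.index) := by
  haveI : Fintype (G ⧸ H) := Fintype.ofFinite _
  have h1 := finrank_aug (G ⧸ H)
  have h2 : H.index = Fintype.card (G ⧸ H) := by rw [Subgroup.index, Nat.card_eq_fintype_card]
  have h3 : H.index ≠ 1 := fun e => hH (Subgroup.index_eq_one.1 e)
  rcases MinDegree.bound_of_irr B (augRep G (G ⧸ H)) (noFix_aug G (G ⧸ H)) with h | ⟨hc, h⟩
  · omega
  refine ⟨by omega, ?_⟩
  rcases h with h | h
  · left
    rwa [show H.index - 1 = finrank ℂ (LinearMap.ker (total (G ⧸ H))) by omega]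
  · right; omega

section count

/-- Counting fixed points over a finite group gives a multiple of its order. -/
theorem dvd_sum_fixed (Q : Type*) [Group Q] [Fintype Q] (Ω : Type*) [MulAction Q Ω] [Finite Ω] :
    Fintype.card Q ∣ ∑ x : Q, Nat.card (fixedBy Ω x) := by
  classical
  haveI := Fintype.ofFinite Ω
  haveI : Fintype (orbitRel.Quotient Q Ω) := Fintype.ofFinite _
  refine ⟨Fintype.card (orbitRel.Quotient Q Ω), ?_⟩
  rw [mul_comm, ← sum_card_fixedBy_eq_card_orbits_mul_card_group Q Ω]
  exact Finset.sum_congr rfl fun x _ => Nat.card_eq_fintype_card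

/-- Conjugate elements fix equally many points. -/
theorem fixed_eq_of_isConj {G : Type*} [Group G] {Ω : Type*} [MulAction G Ω] {a b : G} (h : IsConj a b) :
    Nat.card (fixedBy Ω a) = Nat.card (fixedBy Ω b) := by
  obtain ⟨c, rfl⟩ := isConj_iff.1 h
  exact Nat.card_congr
    { toFun := fun x => ⟨c • x.1, by
        have hx : a • x.1 = x.1 := x.2
        show (c * a * c⁻¹) • c • x.1 = c • x.1
        rw [← mul_smul, inv_mul_cancel_right, mul_smul, hx]⟩
      invFun := fun x => ⟨c⁻¹ • x.1, by
        have hx : (c * a * c⁻¹) • x.1 = x.1 := x.2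
        show a • c⁻¹ • x.1 = c⁻¹ • x.1
        conv_rhs => rw [← hx]
        simp [← mul_smul, mul_assoc]⟩
      left_inv := fun x => Subtype.ext (inv_smul_smul _ _)
      right_inv := fun x => Subtype.ext (smul_inv_smul _ _) }

end count

end Cfsg.Agent.MinIndex
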