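/-
The exceptional cases `SL_3(4)` and `SL_4(3)` of the index bound.
-/
import Cfsg.Agent.Lib.MinIndex.Perm

set_option autoImplicit false

namespace Cfsg.Agent.MinIndex

open Matrix Module MulAction MinDegree

variable {F : Type} [Field F] [Fintype F] [DecidableEq F]

/-- `SL_3(4)`: degrees `17` and `19` do not occur. -/
theorem bound_three_four (hq : Fintype.card F = 4) : Bound F 2 fun k => 15 ≤ k ∧ k ≠ 17 ∧ k ≠ 19 := by
  intro V _ _ _ ρ _ hρ
  by_contra hlt
  obtain ⟨ψ, f, hs, hf, hk, -, z, hz⟩ := step le_rfl hρ (by rw [hq, S_two]; omega)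
  rw [hq, S_two] at *
  rw [hk] at hz
  have : f = 2 ∨ f = 4 := by omega
  rcases this with rfl | rfl <;> norm_num at hz <;> omega

/-- `SL_4(3)`: the degree `38` does not occur. -/
theorem bound_four_three (hq : Fintype.card F = 3) : Bound F 3 fun k => k = 26 ∨ 39 ≤ k := by
  intro V _ _ _ ρ _ hρ
  by_contra hlt
  have h := small_four_three hq V ρ hρ
  obtain ⟨ψ, f, hs, hf, hk, -, z, hz⟩ := step (by norm_num) hρ (by rw [hq, S_three]; omega)
  rw [hq, S_three] at *
  have hk38 : finrank ℂ V = 38 := by omega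
  obtain rfl : f = 12 := by omega
  rw [hk38] at hz
  norm_num at hz
  omega

section trans

variable {m : ℕ}

/-- The matrices `1 + u φ` are conjugate to a fixed transvection. -/
theorem isConj_of_val (hm : 2 ≤ m) (j : Fin m) {u φ : Fin (m + 1) → F} (hu : u ≠ 0) (hφ : φ ≠ 0)
    (h0 : φ ⬝ᵥ u = 0) {s : SpecialLinearGroup (Fin (m + 1)) F} (hs : s.1 = 1 + Matrix.vecMulVec u φ) :
    IsConj (qEl (Pi.single j (1 : F))) s := by
  obtain ⟨g, hg1, hg2⟩ := transvection_pair_conj hm hu hφ h0 (j := j)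
  refine isConj_iff.2 ⟨g, ?_⟩
  rw [mul_inv_eq_iff_eq_mul, qEl_single]
  refine Subtype.ext ?_
  show g.1 * _ = s.1 * g.1
  rw [hs, SpecialLinearGroup.transvection_coe, Matrix.mul_add, Matrix.add_mul, Matrix.mul_one,
    Matrix.one_mul]
  congr 1
  rw [single_eq, Matrix.mul_vecMulVec, Matrix.vecMulVec_mul, hg1, hg2]

theorem qEl_val (v : Fin m → F) :
    (qEl v).1 = 1 + Matrix.vecMulVec (Pi.single 0 1) (Fin.cons 0 v) := by
  ext a b
  refine Fin.cases ?_ (fun a' => ?_) a <;> refine Fin.cases ?_ (fun b' => ?_) b <;>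
    simp [qEl, bl, blMat, Matrix.one_apply, Matrix.vecMulVec_apply, Fin.succ_ne_zero,
      (Fin.succ_ne_zero _).symm]

theorem qEl_isConj (hm : 2 ≤ m) (j : Fin m) {v : Fin m → F} (hv : v ≠ 0) :
    IsConj (qEl (Pi.single j (1 : F))) (qEl v) := by
  refine isConj_of_val hm j (by simp) (fun h => hv ?_) (by simp [dotProduct_single]) (qEl_val v)
  funext i
  simpa using congrFun h i.succ

/-- The first-row group as a homomorphism. -/
def qHom : Multiplicative (Fin m → F) →* SpecialLinearGroup (Fin (m + 1)) F where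
  toFun v := qEl v.toAdd
  map_one' := qEl_zero
  map_mul' a b := qEl_add _ _

variable (H : Subgroup (SpecialLinearGroup (Fin (m + 1)) F))

local notation "Ω" => SpecialLinearGroup (Fin (m + 1)) F ⧸ H

/-- The number of points fixed by a transvection, against the degree. -/
theorem count_transvection (hm : 2 ≤ m) (j : Fin m) :
    Fintype.card F ^ m ∣ H.index +
      (Fintype.card F ^ m - 1) * Nat.card (fixedBy Ω (qEl (Pi.single j (1 : F)))) := by
  classical
  letI : MulAction (Multiplicative (Fin m → F)) Ω := MulAction.compHom _ qHom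
  have h := dvd_sum_fixed (Multiplicative (Fin m → F)) Ω
  rw [← Finset.add_sum_erase _ _ (Finset.mem_univ (1 : Multiplicative (Fin m → F)))] at h
  have h1 : Nat.card (fixedBy Ω (1 : Multiplicative (Fin m → F))) = H.index := by
    rw [Subgroup.index]
    exact Nat.card_congr (Equiv.subtypeUnivEquiv fun x => one_smul _ x)
  have h2 : ∀ v ∈ (Finset.univ : Finset (Multiplicative (Fin m → F))).erase 1,
      Nat.card (fixedBy Ω v) = Nat.card (fixedBy Ω (qEl (Pi.single j (1 : F)))) := by
    intro v hv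
    have hv' : v.toAdd ≠ 0 := fun e => (Finset.ne_of_mem_erase hv) (toAdd_eq_zero.1 e)
    rw [fixed_eq_of_isConj (qEl_isConj hm j hv')]
    rfl
  rw [h1, Finset.sum_congr rfl h2, Finset.sum_const, Finset.card_erase_of_mem (Finset.mem_univ _),
    Finset.card_univ, Fintype.card_multiplicative, Fintype.card_fun, Fintype.card_fin, smul_eq_mul] at h
  exact h

/-- A transvection moves some point. -/
theorem fixed_lt (hm : 2 ≤ m) (j : Fin m) (hH : H ≠ ⊤) :
    Nat.card (fixedBy Ω (qEl (Pi.single j (1 : F)))) < H.index := by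
  classical
  by_contra hle
  rw [not_lt] at hle
  have hall : fixedBy Ω (qEl (Pi.single j (1 : F))) = Set.univ :=
    Set.eq_univ_of_univ_subset (le_of_eq (Set.eq_of_subset_of_ncard_le (Set.subset_univ _) (by
      rw [Set.ncard_univ, ← Nat.card_coe_set_eq]
      exact hle) (Set.toFinite _)).symm)
  have hker : MulAction.toPermHom (SpecialLinearGroup (Fin (m + 1)) F) Ω = 1 :=
    kernel_eq_top hm _ (j := j) (Equiv.ext fun x => by
      have : x ∈ fixedBy Ω (qEl (Pi.single j (1 : F))) := hall ▸ Set.mem_univ x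
      exact this)
  refine hH (eq_top_iff.2 fun g _ => ?_)
  have h := Equiv.ext_iff.1 (DFunLike.congr_fun hker g) (QuotientGroup.mk 1)
  have h' : (QuotientGroup.mk (g * 1) : Ω) = QuotientGroup.mk 1 := h
  rw [QuotientGroup.eq] at h'
  simpa using h'

/-- An element of the stabiliser fixes a point. -/
theorem fixed_pos {g : SpecialLinearGroup (Fin (m + 1)) F} (hg : g ∈ H) :
    0 < Nat.card (fixedBy Ω g) := by
  haveI : Nonempty (fixedBy Ω g) := ⟨⟨QuotientGroup.mk 1, by
    show QuotientGroup.mk (g * 1) = _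
    rw [QuotientGroup.eq]
    simpa using H.inv_mem hg⟩⟩
  exact Nat.card_pos

end trans

/-- An involution of `SL_3` in characteristic two is a transvection. -/
theorem involution_isConj [CharP F 2] {s : SpecialLinearGroup (Fin 3) F} (h2 : s * s = 1) (h1 : s ≠ 1) :
    IsConj (qEl (m := 2) (Pi.single 0 (1 : F))) s := by
  obtain ⟨N, hN⟩ : ∃ N, N = s.1 - 1 := ⟨_, rfl⟩
  have hs : s.1 * s.1 = 1 := congrArg Subtype.val h2
  have hNN : N * N = 0 := by
    rw [hN, sub_mul, mul_sub, hs, Matrix.one_mul, Matrix.mul_one]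
    ext a b
    simp only [Matrix.sub_apply, Matrix.add_apply, Matrix.zero_apply, CharTwo.sub_eq_add]
    rw [show (1 : Matrix (Fin 3) (Fin 3) F) a b + s.1 a b + (s.1 a b + (1 : Matrix (Fin 3) (Fin 3) F) a b) =
      ((1 : Matrix (Fin 3) (Fin 3) F) a b + s.1 a b) + ((1 : Matrix (Fin 3) (Fin 3) F) a b + s.1 a b) by ring,
      CharTwo.add_self_eq_zero]
  have hN0 : N ≠ 0 := fun e => h1 (Subtype.ext (sub_eq_zero.1 (hN ▸ e)))
  obtain ⟨a, ha⟩ := Function.ne_iff.1 hN0
  obtain ⟨b, hb⟩ := Function.ne_iff.1 ha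
  obtain ⟨u, hu⟩ : ∃ u, u = N *ᵥ Pi.single b 1 := ⟨_, rfl⟩
  have hu0 : u ≠ 0 := fun e => hb (by simpa [hu, Matrix.mulVec_single_one] using congrFun e a)
  have hrk : finrank F (LinearMap.range N.mulVecLin) ≤ 1 := by
    have hle : LinearMap.range N.mulVecLin ≤ LinearMap.ker N.mulVecLin := by
      rintro _ ⟨x, rfl⟩
      simp [Matrix.mulVecLin_apply, Matrix.mulVec_mulVec, hNN]
    have h3 := N.mulVecLin.finrank_range_add_finrank_ker
    rw [Module.finrank_fin_fun] at h3
    have := Submodule.finrank_mono hle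
    omega
  have hspan : LinearMap.range N.mulVecLin = F ∙ u := by
    symm
    refine Submodule.eq_of_le_of_finrank_le ?_ (by rw [finrank_span_singleton hu0]; exact hrk)
    rw [Submodule.span_singleton_le_iff_mem, hu]
    exact ⟨_, rfl⟩
  have hc : ∀ c, ∃ t : F, t • u = N *ᵥ Pi.single c 1 := fun c =>
    Submodule.mem_span_singleton.1 (hspan ▸ ⟨Pi.single c 1, rfl⟩)
  choose φ hφ using hc
  have hNv : N = Matrix.vecMulVec u φ := by
    ext i c
    have := congrFun (hφ c) i
    simp only [Matrix.mulVec_single_one, Pi.smul_apply, smul_eq_mul] at this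
    rw [Matrix.vecMulVec_apply, mul_comm, this]
    rfl
  have hφ0 : φ ≠ 0 := fun e => hN0 (by rw [hNv, e]; ext; simp [Matrix.vecMulVec_apply])
  refine isConj_of_val le_rfl 0 hu0 hφ0 ?_ (by rw [← hNv, hN, add_sub_cancel])
  have h : N *ᵥ u = 0 := by rw [hu, Matrix.mulVec_mulVec, hNN, Matrix.zero_mulVec]
  rw [hNv, Matrix.vecMulVec_mulVec] at h
  simpa [hu0] using h

/-- No subgroup of `SL_3(4)` has index 16. -/
theorem no_sixteen (hq : Fintype.card F = 4) (H : Subgroup (SpecialLinearGroup (Fin 3) F)) :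
    H.index ≠ 16 := by
  intro hd
  haveI : Fact (Nat.Prime 2) := ⟨Nat.prime_two⟩
  haveI : CharP F 2 := charP_of_card_eq_prime_pow (p := 2) (f := 2) (by rw [hq]; rfl)
  have hne : H ≠ ⊤ := fun e => by rw [e, Subgroup.index_top] at hd; omega
  have hdvd := count_transvection H le_rfl (0 : Fin 2)
  have hlt := fixed_lt H le_rfl (0 : Fin 2) hne
  rw [hd, hq] at hdvd
  rw [hd] at hlt
  obtain ⟨c, hF', hdvd', hlt'⟩ : ∃ c, c = Nat.card (fixedBy (SpecialLinearGroup (Fin 3) F ⧸ H)
      (qEl (m := 2) (Pi.single 0 (1 : F)))) ∧ 4 ^ 2 ∣ 16 + (4 ^ 2 - 1) * c ∧ c < 16 := ⟨_, rfl, hdvd, hlt⟩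
  have hF : Nat.card (fixedBy (SpecialLinearGroup (Fin 3) F ⧸ H) (qEl (m := 2) (Pi.single 0 (1 : F)))) = 0 := by
    rw [← hF']
    norm_num at hdvd'
    omega
  have hcard : Nat.card H * 16 = 60480 := by
    rw [← hd, Subgroup.card_mul_index]
    have h1 := ClassicalSL.card_sl_mul (ι := Fin 3) (F := F)
    rw [ClassicalSL.card_gl_fin (q := 4) (by rw [Nat.card_eq_fintype_card, hq]) 3,
      show Nat.card F = 4 by rw [Nat.card_eq_fintype_card, hq]] at h1
    norm_num [Fin.prod_univ_succ, -Nat.card_eq_fintype_card] at h1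
    omega
  obtain ⟨s, hs⟩ := exists_prime_orderOf_dvd_card' (G := H) 2 (by omega)
  have hs2 : (s : SpecialLinearGroup (Fin 3) F) * s = 1 := by
    have := pow_orderOf_eq_one s
    rw [hs, pow_two] at this
    exact congrArg Subtype.val this
  have hs1 : (s : SpecialLinearGroup (Fin 3) F) ≠ 1 := fun e => by
    rw [orderOf_eq_one_iff.2 (Subtype.ext e)] at hs
    omega
  have h := fixed_pos H s.2
  rw [← fixed_eq_of_isConj (involution_isConj hs2 hs1), hF] at h
  omega

end Cfsg.Agent.MinIndex
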