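/-
No subgroup of `SL_4(3)` has index 27.
-/
import Cfsg.Agent.Lib.MinIndex.Small

set_option autoImplicit false
set_option maxRecDepth 20000

namespace Cfsg.Agent.MinIndex.FourThree

open Matrix MulAction MinDegree

/-- The field with three elements. -/
local notation "K" => ZMod 3

/-- The quadratic form on `2 × 2` matrices. -/
def dt (v : Fin 4 → K) : K := v 0 * v 3 - v 1 * v 2

/-- The unipotent radical of the line stabiliser. -/
def rEl (v : Fin 4 → K) : SpecialLinearGroup (Fin 4) K :=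
  ⟨!![1, 0, v 0, v 1; 0, 1, v 2, v 3; 0, 0, 1, 0; 0, 0, 0, 1], by
    simp [Matrix.det_succ_row_zero, Fin.sum_univ_succ, Fin.succAbove]⟩

/-- A Levi factor. -/
def lEl (a : Fin 4 → K) (h : dt a = 1) : SpecialLinearGroup (Fin 4) K :=
  ⟨!![a 0, a 1, 0, 0; a 2, a 3, 0, 0; 0, 0, 1, 0; 0, 0, 0, 1], by
    refine Eq.trans ?_ h
    simp [dt, Matrix.det_succ_row_zero, Fin.sum_univ_succ, Fin.succAbove]
    ring⟩

/-- The product of `2 × 2` matrices. -/
def mul2 (a v : Fin 4 → K) : Fin 4 → K :=
  ![a 0 * v 0 + a 1 * v 2, a 0 * v 1 + a 1 * v 3, a 2 * v 0 + a 3 * v 2, a 2 * v 1 + a 3 * v 3]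

theorem rEl_add (v w : Fin 4 → K) : rEl (v + w) = rEl v * rEl w := by
  refine Subtype.ext ?_
  show (rEl (v + w)).1 = (rEl v).1 * (rEl w).1
  ext i j
  fin_cases i <;> fin_cases j <;>
    simp [rEl, Matrix.mul_apply, Fin.sum_univ_succ, add_comm]

theorem rEl_zero : rEl 0 = 1 := by
  refine Subtype.ext ?_
  ext i j
  fin_cases i <;> fin_cases j <;> simp [rEl]

theorem lEl_conj (a : Fin 4 → K) (h : dt a = 1) (v : Fin 4 → K) :
    lEl a h * rEl v = rEl (mul2 a v) * lEl a h := by
  refine Subtype.ext ?_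
  show (lEl a h).1 * (rEl v).1 = (rEl (mul2 a v)).1 * (lEl a h).1
  ext i j
  fin_cases i <;> fin_cases j <;>
    simp [rEl, lEl, mul2, Matrix.mul_apply, Fin.sum_univ_succ]

/-- Representatives of the determinant classes. -/
def rep (δ : K) : Fin 4 → K := ![1, 0, 0, δ]

theorem exists_levi : ∀ v : Fin 4 → K, dt v ≠ 0 → ∃ a : Fin 4 → K, dt a = 1 ∧ mul2 a (rep (dt v)) = v := by
  decide +kernel

theorem exists_rank_one : ∀ v : Fin 4 → K, dt v = 0 → v ≠ 0 →
    ∃ u₀ u₁ φ₀ φ₁ : K, (u₀ ≠ 0 ∨ u₁ ≠ 0) ∧ (φ₀ ≠ 0 ∨ φ₁ ≠ 0) ∧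
      ![u₀ * φ₀, u₀ * φ₁, u₁ * φ₀, u₁ * φ₁] = v := by
  decide +kernel

theorem card_dt : ((Finset.univ : Finset (Fin 4 → K)).filter fun v => dt v = 1).card = 24 ∧
    ((Finset.univ : Finset (Fin 4 → K)).filter fun v => dt v = 2).card = 24 ∧
    ∀ x : K, x = 0 ∨ x = 1 ∨ x = 2 := by
  decide +kernel

/-- The plane with given second rows. -/
def plane (c d e f : K) : Finset (Fin 4 → K) :=
  (Finset.univ : Finset (K × K)).image fun p => ![p.1, p.2, p.1 * c + p.2 * e, p.1 * d + p.2 * f]

theorem plane_dt : ∀ c d e f : K, (∀ v ∈ plane c d e f, v = 0 ∨ dt v ≠ 0) →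
    ((plane c d e f).filter fun v => dt v = 1).card = 4 := by
  decide +kernel

/-- The homomorphism onto the radical. -/
def rHom : Multiplicative (Fin 4 → K) →* SpecialLinearGroup (Fin 4) K where
  toFun v := rEl v.toAdd
  map_one' := rEl_zero
  map_mul' a b := rEl_add _ _

theorem no_twentyseven (H : Subgroup (SpecialLinearGroup (Fin 4) K)) : H.index ≠ 27 := by
  classical
  intro hd
  have h3 : Fintype.card K = 3 := ZMod.card 3
  have hne : H ≠ ⊤ := fun e => by rw [e, Subgroup.index_top] at hd; omega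
  obtain ⟨c, hc, hdvd, hlt⟩ : ∃ c, c = Nat.card (fixedBy (SpecialLinearGroup (Fin 4) K ⧸ H)
      (qEl (m := 3) (Pi.single 0 (1 : K)))) ∧ 3 ^ 3 ∣ 27 + (3 ^ 3 - 1) * c ∧ c < 27 := by
    refine ⟨_, rfl, ?_, ?_⟩
    · have h := count_transvection H (show 2 ≤ 3 by norm_num) (0 : Fin 3)
      rw [hd, h3] at h
      exact h
    · have h := fixed_lt H (show 2 ≤ 3 by norm_num) (0 : Fin 3) hne
      rw [hd] at h
      exact h
  have hc0 : c = 0 := by norm_num at hdvd; omega
  let Ω := SpecialLinearGroup (Fin 4) K ⧸ H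
  have hfree : ∀ v : Fin 4 → K, dt v = 0 → v ≠ 0 → ∀ x : Ω, rEl v • x ≠ x := by
    intro v hv hv0 x hx
    obtain ⟨u₀, u₁, φ₀, φ₁, hu, hφ, e⟩ := exists_rank_one v hv hv0
    have hconj : IsConj (qEl (m := 3) (Pi.single 0 (1 : K))) (rEl v) := by
      refine isConj_of_val (u := ![u₀, u₁, 0, 0]) (φ := ![0, 0, φ₀, φ₁]) (by norm_num) 0
        (fun h => ?_) (fun h => ?_) (by simp [dotProduct, Fin.sum_univ_succ]) ?_
      · rcases hu with hu | hu
        · exact hu (congrFun h 0)
        · exact hu (congrFun h 1)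
      · rcases hφ with hφ | hφ
        · exact hφ (congrFun h 2)
        · exact hφ (congrFun h 3)
      · subst e
        ext i j
        fin_cases i <;> fin_cases j <;> simp [rEl, Matrix.vecMulVec_apply]
    have h := fixed_eq_of_isConj (Ω := Ω) hconj
    rw [← hc, hc0] at h
    haveI : Nonempty (fixedBy Ω (rEl v)) := ⟨⟨x, hx⟩⟩
    exact Nat.card_pos.ne h
  let fx : K → ℕ := fun δ => Nat.card (fixedBy Ω (rEl (rep δ)))
  have hclass : ∀ v : Fin 4 → K, dt v ≠ 0 → Nat.card (fixedBy Ω (rEl v)) = fx (dt v) := by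
    intro v hv
    obtain ⟨a, ha, e⟩ := exists_levi v hv
    refine (fixed_eq_of_isConj (isConj_iff.2 ⟨lEl a ha, ?_⟩)).symm
    rw [lEl_conj, e, mul_inv_cancel_right]
  haveI : Fintype Ω := Fintype.ofFinite _
  let S : Ω → Finset (Fin 4 → K) := fun x => Finset.univ.filter fun v => rEl v • x = x
  have hSadd : ∀ x, ∀ v ∈ S x, ∀ w ∈ S x, v + w ∈ S x := by
    intro x v hv w hw
    simp only [S, Finset.mem_filter, Finset.mem_univ, true_and] at hv hw ⊢
    rw [rEl_add, mul_smul, hw, hv]
  have hS0 : ∀ x, (0 : Fin 4 → K) ∈ S x := by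
    intro x
    simp [S, rEl_zero]
  have hSinj : ∀ x, Set.InjOn (fun v : Fin 4 → K => (v 0, v 1)) (S x) := by
    intro x v hv w hw e
    by_contra hvw
    obtain ⟨e0, e1⟩ := Prod.ext_iff.1 e
    have hsub : v + (w + w) ∈ S x := hSadd x v hv _ (hSadd x w hw w hw)
    have hwww : ∀ y : K, y + (y + y) = 0 := by decide
    have hdv : dt (v + (w + w)) = 0 := by
      simp only at e0 e1
      simp only [dt, Pi.add_apply, e0, e1, hwww, zero_mul, sub_zero]
    refine hfree _ hdv (fun h => hvw (funext fun i => ?_)) x (Finset.mem_filter.1 hsub).2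
    have := congrFun h i
    simp only [Pi.add_apply, Pi.zero_apply] at this
    calc v i = v i + (w i + (w i + w i)) := by rw [hwww, add_zero]
      _ = (v i + (w i + w i)) + w i := by ring
      _ = w i := by rw [this, zero_add]
  have hS9 : ∀ x, (S x).card ≤ 9 := fun x =>
    (Finset.card_le_card_of_injOn _ (fun v _ => Finset.mem_univ _) (hSinj x)).trans
      (by simp)
  have hsum : ∀ P : (Fin 4 → K) → Prop, ∀ [DecidablePred P],
      ∑ v ∈ Finset.univ.filter P, Nat.card (fixedBy Ω (rEl v)) = ∑ x : Ω, ((S x).filter P).card := by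
    intro P _
    simp only [S, Finset.filter_filter, Finset.card_filter]
    rw [Finset.sum_filter, Finset.sum_comm]
    refine Finset.sum_congr rfl fun v _ => ?_
    rw [Nat.card_eq_fintype_card, ← Set.toFinset_card, show (fixedBy Ω (rEl v)).toFinset =
      Finset.univ.filter (fun x => rEl v • x = x) by ext; simp, Finset.card_filter]
    split_ifs with hP
    · simp [hP]
    · simp [hP]
  have hΩ : Fintype.card Ω = 27 := by rw [← Nat.card_eq_fintype_card]; exact hd
  have htot : 81 ∣ ∑ x : Ω, (S x).card := by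
    have h := hsum (fun _ => True)
    simp only [Finset.filter_true] at h
    rw [← h]
    letI : MulAction (Multiplicative (Fin 4 → K)) Ω := MulAction.compHom _ rHom
    have h' := dvd_sum_fixed (Multiplicative (Fin 4 → K)) Ω
    exact h'
  have hone : ∀ δ : K, δ ≠ 0 →
      ∑ x : Ω, ((S x).filter fun v => dt v = δ).card = 24 * fx δ := by
    intro δ hδ
    rw [← hsum, Finset.sum_congr rfl (fun v hv => show _ = fx δ by
      rw [hclass v (by rw [(Finset.mem_filter.1 hv).2]; exact hδ), (Finset.mem_filter.1 hv).2]),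
      Finset.sum_const, smul_eq_mul]
    rcases card_dt.2.2 δ with rfl | rfl | rfl
    · exact absurd rfl hδ
    · rw [card_dt.1]
    · rw [card_dt.2.1]
  have hsplit : ∀ x, (S x).card =
      1 + ((S x).filter fun v => dt v = 1).card + ((S x).filter fun v => dt v = 2).card := by
    intro x
    have h0 : ((S x).filter fun v => dt v = 0) = {0} := by
      ext v
      simp only [Finset.mem_filter, Finset.mem_singleton]
      refine ⟨fun h => by_contra fun h0 => hfree v h.2 h0 x (Finset.mem_filter.1 h.1).2, ?_⟩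
      rintro rfl
      exact ⟨hS0 x, rfl⟩
    rw [Finset.card_eq_sum_card_fiberwise (f := dt) (t := Finset.univ) (fun v _ => Finset.mem_univ _)]
    rw [show (Finset.univ : Finset K) = {0, 1, 2} from rfl, Finset.sum_insert (by decide),
      Finset.sum_insert (by decide), Finset.sum_singleton, h0, Finset.card_singleton, add_assoc]
  have htot' : ∑ x : Ω, (S x).card = 27 + 24 * fx 1 + 24 * fx 2 := by
    rw [Finset.sum_congr rfl (fun x _ => hsplit x), Finset.sum_add_distrib, Finset.sum_add_distrib,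
      hone 1 (by decide), hone 2 (by decide), Finset.sum_const, Finset.card_univ, hΩ, smul_eq_mul,
      mul_one]
  have hle : ∑ x : Ω, (S x).card ≤ 243 := by
    refine (Finset.sum_le_sum fun x _ => hS9 x).trans ?_
    simp [hΩ]
  have heq : ∑ x : Ω, (S x).card = 243 := by omega
  have hall : ∀ x, (S x).card = 9 := by
    intro x
    refine le_antisymm (hS9 x) ?_
    by_contra hlt'
    have : ∑ y : Ω, (S y).card < ∑ _y : Ω, 9 :=
      Finset.sum_lt_sum (fun y _ => hS9 y) ⟨x, Finset.mem_univ x, by omega⟩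
    simp [hΩ, heq] at this
  have hfour : ∀ x, ((S x).filter fun v => dt v = 1).card = 4 := by
    intro x
    have hsurj : ∀ p : K × K, ∃ v ∈ S x, (v 0, v 1) = p := fun p =>
      Finset.surj_on_of_inj_on_of_card_le (s := S x) (t := Finset.univ) (fun v _ => (v 0, v 1))
        (fun v _ => Finset.mem_univ _) (fun v w hv hw e => hSinj x hv hw e) (by simp [hall x]) p
        (Finset.mem_univ p) |>.imp fun v h => ⟨h.1, h.2.symm⟩
    obtain ⟨v, hv, ev⟩ := hsurj (1, 0)
    obtain ⟨w, hw, ew⟩ := hsurj (0, 1)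
    obtain ⟨v0, v1⟩ := Prod.ext_iff.1 ev
    obtain ⟨w0, w1⟩ := Prod.ext_iff.1 ew
    simp only at v0 v1 w0 w1
    have hmul : ∀ u ∈ S x, ∀ k : K, k • u ∈ S x := by
      intro u hu k
      rcases card_dt.2.2 k with rfl | rfl | rfl
      · simpa using hS0 x
      · simpa using hu
      · rw [show (2 : K) = 1 + 1 from rfl, add_smul, one_smul]
        exact hSadd x u hu u hu
    have hsub : plane (v 2) (v 3) (w 2) (w 3) ⊆ S x := by
      intro u hu
      obtain ⟨p, -, rfl⟩ := Finset.mem_image.1 hu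
      have : p.1 • v + p.2 • w = ![p.1, p.2, p.1 * v 2 + p.2 * w 2, p.1 * v 3 + p.2 * w 3] := by
        funext i
        fin_cases i <;> simp [v0, v1, w0, w1]
      rw [← this]
      exact hSadd x _ (hmul v hv _) _ (hmul w hw _)
    have heq' : plane (v 2) (v 3) (w 2) (w 3) = S x := by
      refine Finset.eq_of_subset_of_card_le hsub ?_
      rw [hall x, plane, Finset.card_image_of_injective _ (fun p p' e => Prod.ext
        (congrFun e 0) (congrFun e 1))]
      simp
    rw [← heq']
    refine plane_dt _ _ _ _ fun u hu => ?_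
    by_cases h0 : u = 0
    · exact Or.inl h0
    · exact Or.inr fun h => hfree u h h0 x (Finset.mem_filter.1 (hsub hu)).2
  have h108 := hone 1 (by decide)
  rw [Finset.sum_congr rfl (fun x _ => hfour x), Finset.sum_const, Finset.card_univ, hΩ, smul_eq_mul] at h108
  omega

end Cfsg.Agent.MinIndex.FourThree
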