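/-
The smallest index of a proper subgroup of `PSL_n(q)`, `n ≥ 3`.
-/
import Cfsg.Agent.Lib.MinIndex.FourThree
import Cfsg.Agent.Lib.AutPSL.Stabilizers
import Mathlib.Algebra.Field.Shrink
import Mathlib.Algebra.Field.ZMod

set_option autoImplicit false

namespace Cfsg.Agent.MinIndex

open Matrix MinDegree

theorem index_dvd_factorial {G : Type*} [Group G] [Finite G] [IsSimpleGroup G] {H : Subgroup G} (hH : H ≠ ⊤) :
    Nat.card G ∣ H.index.factorial := by
  have hcore : H.normalCore = ⊥ :=
    (IsSimpleGroup.eq_bot_or_eq_top_of_normal H.normalCore inferInstance).resolve_right fun e =>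
      hH (eq_top_iff.2 (e ▸ H.normalCore_le))
  have hinj : Function.Injective (MulAction.toPermHom G (G ⧸ H)) :=
    (MonoidHom.ker_eq_bot_iff _).1 (by rw [← Subgroup.normalCore_eq_ker, hcore])
  have h := Subgroup.card_dvd_of_injective _ hinj
  rwa [Nat.card_perm] at h

/-- The index bound in `SL_{m+1}(q)`. -/
theorem sl_bound {F : Type} [Field F] [Fintype F] [DecidableEq F] (m : ℕ) (hm : 2 ≤ m)
    (hexc : ¬ (m = 3 ∧ Fintype.card F = 2)) (h32 : ¬ (m = 2 ∧ Fintype.card F = 2))
    (H : Subgroup (SpecialLinearGroup (Fin (m + 1)) F)) (hH : H ≠ ⊤) :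
    S (Fintype.card F) m + 1 ≤ H.index := by
  by_cases h34 : m = 2 ∧ Fintype.card F = 4
  · obtain ⟨rfl, hq⟩ := h34
    obtain ⟨h1, h2⟩ := index_bound (P := fun k => k ≠ 17 ∧ k ≠ 19)
      (fun U _ _ _ τ _ hτ => bound_three_four hq U τ hτ) hH
    rw [hq, S_two]
    by_contra hlt
    have h16 := no_sixteen hq H
    have hd : H.index ∣ 60480 := by
      have h3 := ClassicalSL.card_sl_mul (ι := Fin 3) (F := F)
      rw [ClassicalSL.card_gl_fin (q := 4) (by rw [Nat.card_eq_fintype_card, hq]) 3,
        show Nat.card F = 4 by rw [Nat.card_eq_fintype_card, hq]] at h3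
      norm_num [Fin.prod_univ_succ, -Nat.card_eq_fintype_card] at h3
      have h4 := H.index_dvd_card
      rwa [show Nat.card (SpecialLinearGroup (Fin 3) F) = 60480 by omega] at h4
    obtain ⟨d, hd'⟩ : ∃ d, d = H.index := ⟨_, rfl⟩
    rw [← hd'] at h1 h2 hlt h16 hd
    have : d = 17 ∨ d = 18 ∨ d = 19 ∨ d = 20 := by omega
    rcases this with rfl | rfl | rfl | rfl <;> omega
  by_cases h43 : m = 3 ∧ Fintype.card F = 3
  · obtain ⟨rfl, hq⟩ := h43
    obtain ⟨h1, h2⟩ := index_bound (c := 26) (P := fun k => k = 26 ∨ 39 ≤ k)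
      (fun U _ _ _ τ _ hτ => ⟨by have := bound_four_three hq U τ hτ; omega, bound_four_three hq U τ hτ⟩) hH
    rw [hq, S_three]
    have h27 : H.index ≠ 27 := by
      haveI : Fact (Nat.Prime 3) := ⟨Nat.prime_three⟩
      let e : ZMod 3 ≃+* F := ZMod.ringEquivOfPrime F Nat.prime_three hq
      have hs : Function.Surjective (SpecialLinearGroup.map (n := Fin (3 + 1)) e.toRingHom) := fun b =>
        ⟨SpecialLinearGroup.map e.symm.toRingHom b, Subtype.ext (Matrix.ext fun i j => by simp)⟩
      rw [← Subgroup.index_comap_of_surjective H hs]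
      exact FourThree.no_twentyseven _
    omega
  have hbd := bound_all (F := F) m hm ⟨fun e => h32 (by simp only [Prod.mk.injEq] at e; omega),
    fun e => h34 (by simp only [Prod.mk.injEq] at e; omega),
    fun e => hexc (by simp only [Prod.mk.injEq] at e; omega),
    fun e => h43 (by simp only [Prod.mk.injEq] at e; omega)⟩
  exact (index_bound (P := fun _ => True) (fun U _ _ _ τ _ hτ => ⟨hbd U τ hτ, trivial⟩) hH).1

theorem psl_three_two {F : Type*} [Field F] [Fintype F] [DecidableEq F] (hq : Fintype.card F = 2)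
    (H : Subgroup (ProjectiveSpecialLinearGroup (Fin 3) F)) (hH : H ≠ ⊤) : 7 ≤ H.index := by
  haveI := ClassicalSL.isSimpleGroup_psl (ι := Fin 3) (F := F) (by simp)
  have h := index_dvd_factorial hH
  have hc := ClassicalSL.card_psl_mul (ι := Fin 3) (F := F)
  rw [ClassicalSL.card_gl_fin (q := 2) (by rw [Nat.card_eq_fintype_card, hq]) 3,
    show Nat.card F = 2 by rw [Nat.card_eq_fintype_card, hq]] at hc
  norm_num [Fin.prod_univ_succ, -Nat.card_eq_fintype_card] at hc
  rw [hc] at h
  have h0 : H.index ≠ 0 := Subgroup.index_ne_zero_of_finite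
  by_contra hlt
  obtain ⟨d, hd⟩ : ∃ d, d = H.index := ⟨_, rfl⟩
  rw [← hd] at h h0 hlt
  interval_cases d <;> simp [Nat.factorial] at h <;> omega

/-- The index bound in `PSL_n(q)`. -/
theorem psl_bound {F : Type*} [Field F] [Fintype F] [DecidableEq F] (n : ℕ) (hn : 3 ≤ n)
    (hexc : ¬ (n = 4 ∧ Fintype.card F = 2)) (H : Subgroup (ProjectiveSpecialLinearGroup (Fin n) F))
    (hH : H ≠ ⊤) : (Fintype.card F ^ n - 1) / (Fintype.card F - 1) ≤ H.index := by
  obtain ⟨m, rfl⟩ : ∃ m, n = m + 1 := ⟨n - 1, by omega⟩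
  have hq : 2 ≤ Fintype.card F := Fintype.one_lt_card
  have hS := S_mul (show 1 ≤ Fintype.card F by omega) m
  rw [← hS, Nat.mul_div_cancel _ (by omega)]
  by_cases h32 : m = 2 ∧ Fintype.card F = 2
  · obtain ⟨rfl, hq2⟩ := h32
    rw [hq2, S_two]
    exact psl_three_two hq2 H hH
  let F' : Type := Shrink.{0} F
  haveI : Small.{0} F := inferInstance
  haveI : Fintype F' := Fintype.ofEquiv F (equivShrink.{0} F)
  let e : F ≃+* F' := (Shrink.ringEquiv.{0} F).symm
  have hc : Fintype.card F' = Fintype.card F := (Fintype.card_congr e.toEquiv).symm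
  have hs : Function.Surjective ((QuotientGroup.mk' (Subgroup.center (SpecialLinearGroup (Fin (m + 1)) F))).comp
      (SpecialLinearGroup.map (n := Fin (m + 1)) e.symm.toRingHom)) := by
    intro b
    obtain ⟨a, rfl⟩ := QuotientGroup.mk'_surjective _ b
    exact ⟨SpecialLinearGroup.map e.toRingHom a, congrArg (QuotientGroup.mk' _)
      (Subtype.ext (Matrix.ext fun i j => by simp))⟩
  rw [← Subgroup.index_comap_of_surjective H hs, ← hc]
  classical
  exact sl_bound (F := F') m (by omega) (by rw [hc]; omega) (by rw [hc]; omega) _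
    fun e => hH (Subgroup.comap_injective hs (e.trans (Subgroup.comap_top _).symm))

/-- The stabiliser of a point attains the bound. -/
theorem psl_attained {F : Type*} [Field F] [Fintype F] (n : ℕ) (hn : 3 ≤ n) :
    ∃ H : Subgroup (ProjectiveSpecialLinearGroup (Fin n) F),
      H.index = (Fintype.card F ^ n - 1) / (Fintype.card F - 1) := by
  classical
  haveI : Nontrivial (Fin n) := Fin.nontrivial_iff_two_le.2 (by omega)
  haveI : MulAction.IsPretransitive (SpecialLinearGroup (Fin n) F) (Projectivization F (Fin n → F)) :=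
    MulAction.isPretransitive_of_is_two_pretransitive
  let x : Projectivization F (Fin n → F) :=
    Projectivization.mk F (Pi.single ⟨0, by omega⟩ 1) (by simp)
  refine ⟨(MulAction.stabilizer (SpecialLinearGroup (Fin n) F) x).map
    (QuotientGroup.mk' (Subgroup.center _)), ?_⟩
  rw [Subgroup.index_map_eq _ (QuotientGroup.mk'_surjective _)
      (by rw [QuotientGroup.ker_mk']; exact AutPSL.center_le_stabilizer x),
    MulAction.index_stabilizer_of_transitive]
  have h := Projectivization.card F (Fin n → F)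
  rw [Nat.card_fun, Nat.card_fin, Nat.card_eq_fintype_card (α := F)] at h
  have hq : 2 ≤ Fintype.card F := Fintype.one_lt_card
  rw [h, Nat.mul_div_cancel _ (by omega)]

end Cfsg.Agent.MinIndex
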